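import Mathlib
import Cfsg.Agent.Lib.Solvable.Basic

/-!
# A coprime normal layer over the core of a maximal subgroup

`H` maximal with core `C` and `G ⧸ C` solvable: there is a chief factor `M / C` complemented by
`H / C` and, unless `H = C`, a subgroup `A` with `C < A ≤ H`, `M ⊔ A` normal, `[A : C]` prime to
`[M : C]`, no element of `A` outside `C` having all its `M`-conjugates in `A`.
-/

set_option autoImplicit false
set_option linter.style.haveILetI false

namespace Cfsg.Agent.InducedMax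

open Subgroup

/-- The core-free case. -/
theorem exists_layer_coreFree {Q : Type*} [Group Q] [Finite Q] [Group.IsSolvable Q]
    (H : Subgroup Q) (hmax : IsCoatom H) (hcore : ∀ K : Subgroup Q, K.Normal → K ≤ H → K = ⊥) :
    ∃ M A : Subgroup Q, M.Normal ∧ M ≠ ⊥ ∧ M ⊓ H = ⊥ ∧ M ⊔ H = ⊤ ∧ A ≤ H ∧ (M ⊔ A).Normal ∧
      (Nat.card A).Coprime (Nat.card M) ∧ (A = ⊥ → H = ⊥) ∧
      ∀ a ∈ A, (∀ y ∈ M, y * a * y⁻¹ ∈ A) → a = 1 := by
  classical
  haveI : Nontrivial Q := by
    by_contra h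
    rw [not_nontrivial_iff_subsingleton] at h
    exact hmax.1 (Subsingleton.elim _ _)
  obtain ⟨M, p, hMn, -, hMb, hMmin, hMc, hp, hpM⟩ :=
    Solvable.exists_abelian_minimal_normal (K := (⊤ : Subgroup Q))
      (Group.isSolvable_of_isSolvable_injective (f := (⊤ : Subgroup Q).subtype)
        (Subgroup.subtype_injective _)) top_ne_bot
  haveI := hMn
  haveI := Fact.mk hp
  have hcomm : ∀ x ∈ M, ∀ y ∈ M, x * y = y * x := fun x hx y hy =>
    congrArg Subtype.val (mul_comm' (⟨x, hx⟩ : M) ⟨y, hy⟩)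
  have hMH : M ⊔ H = ⊤ := by
    refine hmax.2 _ (lt_of_le_of_ne le_sup_right fun h => hMb (hcore M hMn ?_))
    rw [h]; exact le_sup_left
  -- a subgroup normalised by `M` and by `H` is normal
  have hnormal : ∀ K : Subgroup Q, (∀ y ∈ M, ∀ k ∈ K, y * k * y⁻¹ ∈ K) →
      (∀ y ∈ H, ∀ k ∈ K, y * k * y⁻¹ ∈ K) → K.Normal := by
    intro K h1 h2
    refine ⟨fun k hk g => ?_⟩
    obtain ⟨y, hy, h, hh, rfl⟩ := Subgroup.mem_sup_of_normal_left.1 (hMH ▸ mem_top g)
    have := h1 y hy _ (h2 h hh k hk)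
    simpa [mul_assoc] using this
  have hinf : M ⊓ H = ⊥ := hcore _ (hnormal _ (fun y hy k hk => by
      rw [hcomm y hy k hk.1, mul_inv_cancel_right]; exact hk)
    (fun y hy k hk => ⟨hMn.conj_mem k hk.1 y,
      H.mul_mem (H.mul_mem hy hk.2) (H.inv_mem hy)⟩)) inf_le_right
  -- `H` acts faithfully on `M`
  have hfaith : ∀ a ∈ H, (∀ y ∈ M, Commute a y) → a = 1 := by
    intro a ha hc
    have hK : (H ⊓ centralizer (M : Set Q)).Normal := hnormal _ (fun y hy k hk => by
        rw [(mem_centralizer_iff.1 hk.2 y hy), mul_inv_cancel_right]; exact hk)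
      (fun y hy k hk => ⟨H.mul_mem (H.mul_mem hy hk.1) (H.inv_mem hy),
        Normal.conj_mem inferInstance k hk.2 y⟩)
    have : a ∈ H ⊓ centralizer (M : Set Q) :=
      ⟨ha, mem_centralizer_iff.2 fun y hy => (hc y hy).eq.symm⟩
    rw [hcore _ hK inf_le_left, mem_bot] at this
    exact this
  rcases eq_or_ne H ⊥ with hHb | hHb
  · exact ⟨M, ⊥, hMn, hMb, hinf, hMH, bot_le, by rwa [sup_bot_eq], by simp, fun _ => hHb,
      fun a ha _ => mem_bot.1 ha⟩
  haveI : Nontrivial H := (nontrivial_iff_ne_bot H).2 hHb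
  obtain ⟨A₀, r, hA₀n, -, hA₀b, -, -, hr, hrA₀⟩ :=
    Solvable.exists_abelian_minimal_normal (G := H) (K := (⊤ : Subgroup H))
      (Group.isSolvable_of_isSolvable_injective
        (f := H.subtype.comp (⊤ : Subgroup H).subtype)
        (H.subtype_injective.comp (Subgroup.subtype_injective _))) top_ne_bot
  set A : Subgroup Q := A₀.map H.subtype with hA
  have hAH : A ≤ H := map_subtype_le _
  have hAb : A ≠ ⊥ := by rwa [hA, Ne, Subgroup.map_eq_bot_iff_of_injective _ H.subtype_injective]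
  have hrA : IsPGroup r A := hrA₀.map H.subtype
  have hHA : ∀ y ∈ H, ∀ k ∈ A, y * k * y⁻¹ ∈ A := by
    rintro y hy _ ⟨k, hk, rfl⟩
    exact ⟨⟨y, hy⟩ * k * ⟨y, hy⟩⁻¹, hA₀n.conj_mem k hk _, by simp⟩
  have hMA : (M ⊔ A).Normal := hnormal _ (fun y hy k hk =>
      mul_mem (mul_mem (mem_sup_left hy) hk) (inv_mem (mem_sup_left hy))) (fun y hy k hk => by
    obtain ⟨m, hm, a, ha, rfl⟩ := Subgroup.mem_sup_of_normal_left.1 hk
    have h1 : y * (m * a) * y⁻¹ = (y * m * y⁻¹) * (y * a * y⁻¹) := by group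
    rw [h1]
    exact mul_mem (mem_sup_left (hMn.conj_mem m hm y)) (mem_sup_right (hHA y hy a ha)))
  have hrp : r ≠ p := by
    rintro rfl
    set P := M ⊔ A
    have hP : IsPGroup r P := hpM.to_sup_of_normal_left hrA
    haveI : Group.IsNilpotent P := hP.isNilpotent
    haveI : (M.subgroupOf P).Normal := hMn.subgroupOf P
    have hne := Solvable.inf_center_ne_bot (N := M.subgroupOf P) (by
      rw [Ne, subgroupOf_eq_bot, disjoint_iff, inf_eq_left.2 le_sup_left]; exact hMb)
    -- the fixed points of `A` in `M`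
    have hW : (M ⊓ centralizer (A : Set Q)).Normal := hnormal _ (fun y hy k hk => by
        rw [hcomm y hy k hk.1, mul_inv_cancel_right]; exact hk)
      (fun y hy k hk => ⟨hMn.conj_mem k hk.1 y, mem_centralizer_iff.2 fun a ha => by
        have h1 := hHA y⁻¹ (inv_mem hy) a ha
        rw [inv_inv] at h1
        have h2 := mem_centralizer_iff.1 hk.2 _ h1
        calc a * (y * k * y⁻¹) = y * ((y⁻¹ * a * y) * k) * y⁻¹ := by group
          _ = y * (k * (y⁻¹ * a * y)) * y⁻¹ := by rw [h2]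
          _ = y * k * y⁻¹ * a := by group⟩)
    rcases hMmin _ hW inf_le_left with h | h
    · apply hne
      rw [eq_bot_iff_forall]
      rintro ⟨x, hxP⟩ ⟨hx1, hx2⟩
      have : x ∈ M ⊓ centralizer (A : Set Q) := ⟨mem_subgroupOf.1 hx1,
        mem_centralizer_iff.2 fun a ha => congrArg Subtype.val
          (mem_center_iff.1 hx2 ⟨a, mem_sup_right ha⟩)⟩
      rw [h, mem_bot] at this
      exact Subtype.ext this
    · refine hAb ((eq_bot_iff_forall _).2 fun a ha => hfaith a (hAH ha) fun y hy => ?_)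
      rw [← h] at hy
      exact mem_centralizer_iff.1 hy.2 a ha
  refine ⟨M, A, hMn, hMb, hinf, hMH, hAH, hMA, ?_, fun h => absurd h hAb, fun a ha hconj => ?_⟩
  · obtain ⟨i, hi⟩ := (IsPGroup.iff_card).1 hpM
    haveI := Fact.mk hr
    obtain ⟨j, hj⟩ := (IsPGroup.iff_card).1 hrA
    rw [hi, hj]
    exact Nat.coprime_pow_primes _ _ hr hp hrp
  · refine hfaith a (hAH ha) fun y hy => ?_
    have h1 : y * a * y⁻¹ * a⁻¹ ∈ M ⊓ H :=
      ⟨by
        rw [show y * a * y⁻¹ * a⁻¹ = y * (a * y⁻¹ * a⁻¹) by group]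
        exact mul_mem hy (hMn.conj_mem _ (inv_mem hy) a),
      H.mul_mem (hAH (hconj y hy)) (H.inv_mem (hAH ha))⟩
    rw [hinf, mem_bot, mul_inv_eq_one, mul_inv_eq_iff_eq_mul] at h1
    exact h1.symm

/-- The general case. -/
theorem exists_layer {G : Type*} [Group G] [Finite G] (L H : Subgroup G) [L.Normal]
    (hLH : L ≤ H) (hmax : IsCoatom H) (hsolv : Group.IsSolvable (G ⧸ L)) :
    ∃ C M A : Subgroup G, C.Normal ∧ M.Normal ∧ L ≤ C ∧ C ≤ M ∧ C ≤ A ∧ A ≤ H ∧ C ≠ M ∧
      M ⊓ H = C ∧ M ⊔ H = ⊤ ∧ (M ⊔ A).Normal ∧ (C.relIndex A).Coprime (C.relIndex M) ∧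
      (A = C → H = C) ∧ ∀ a ∈ A, (∀ y ∈ M, y * a * y⁻¹ ∈ A) → a ∈ C := by
  set C := H.normalCore
  have hCH : C ≤ H := H.normalCore_le
  have hLC : L ≤ C := normal_le_normalCore.2 hLH
  set π := QuotientGroup.mk' C
  have hπ : Function.Surjective π := QuotientGroup.mk'_surjective C
  have hker : π.ker = C := QuotientGroup.ker_mk' C
  haveI : Group.IsSolvable (G ⧸ C) := by
    haveI := hsolv
    exact Group.isSolvable_of_surjective (QuotientGroup.map_surjective_of_surjective (N := L)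
      (M := C) (f := MonoidHom.id G) hπ hLC)
  have hH : (H.map π).comap π = H := by rw [comap_map_eq, hker, sup_eq_left.2 hCH]
  have hmax' : IsCoatom (H.map π) := by
    refine ⟨fun h => hmax.1 (by rw [← hH, h, comap_top]), fun K hK => ?_⟩
    have : H < K.comap π := hH.symm.le.trans_lt ((comap_lt_comap_of_surjective hπ).2 hK)
    rw [← map_comap_eq_self_of_surjective hπ K, hmax.2 _ this, map_top_of_surjective π hπ]
  have hcore : ∀ K : Subgroup (G ⧸ C), K.Normal → K ≤ H.map π → K = ⊥ := by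
    intro K hKn hK
    have h1 : K.comap π ≤ C := normal_le_normalCore.2 ((comap_mono hK).trans hH.le)
    rw [← map_comap_eq_self_of_surjective hπ K, Subgroup.map_eq_bot_iff, hker]
    exact h1
  obtain ⟨M, A, hMn, hMb, hinf, hsup, hAH, hMA, hcop, hAb, hfix⟩ :=
    exists_layer_coreFree _ hmax' hcore
  have hC : ∀ K : Subgroup (G ⧸ C), C ≤ K.comap π := fun K => hker.ge.trans (ker_le_comap π K)
  have hrel : ∀ K : Subgroup (G ⧸ C), C.relIndex (K.comap π) = Nat.card K := by
    intro K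
    have := relIndex_comap (⊥ : Subgroup (G ⧸ C)) π (K.comap π)
    rw [MonoidHom.comap_bot, hker, map_comap_eq_self_of_surjective hπ, relIndex_bot_left] at this
    exact this
  refine ⟨C, M.comap π, A.comap π, inferInstance, hMn.comap π, hLC, hC M, hC A,
    (comap_mono hAH).trans hH.le, fun h => hMb ?_, ?_, ?_, ?_, ?_, fun h => ?_, fun a ha hy => ?_⟩
  · rw [← map_comap_eq_self_of_surjective hπ M, ← h, Subgroup.map_eq_bot_iff, hker]
  · refine (congrArg (M.comap π ⊓ ·) hH).symm.trans ?_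
    rw [← comap_inf, hinf, MonoidHom.comap_bot, hker]
  · refine (congrArg (M.comap π ⊔ ·) hH).symm.trans ?_
    rw [comap_sup_eq _ _ _ hπ, hsup, comap_top]
  · rw [comap_sup_eq _ _ _ hπ]; exact hMA.comap π
  · rw [hrel, hrel]; exact hcop
  · have : A = ⊥ := by
      rw [← map_comap_eq_self_of_surjective hπ A, h, Subgroup.map_eq_bot_iff, hker]
    refine hH.symm.trans ?_
    rw [hAb this, MonoidHom.comap_bot, hker]
  · rw [← hker, MonoidHom.mem_ker]
    refine hfix _ ha fun y hy' => ?_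
    obtain ⟨y, rfl⟩ := hπ y
    have := hy y hy'
    simpa using this

end Cfsg.Agent.InducedMax
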