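import Mathlib
import Cfsg.Agent.S0887
import Cfsg.Agent.Lib.Clifford.Glue
import Cfsg.Agent.Lib.Char.Clifford
import Cfsg.Agent.Lib.InducedMax.Group

/-!
# Characters induced from a maximal subgroup are not quasi-primitive

`θ ∈ Irr H` irreducible on `L ⊴ G`, `H` maximal, `G ⧸ L` solvable, `θ^G` irreducible: some
normal `M ⊇ L` does not see `θ^G` as a multiple of one irreducible character.
-/

set_option autoImplicit false
set_option linter.style.haveILetI false

namespace Cfsg.Agent.InducedMax

open Cfsg Cfsg.Agent.Char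
open scoped ComplexConjugate Classical

universe u

variable {G : Type u} [Group G] [Fintype G]

theorem sum_of_vanishing {K K' : Subgroup G} (hle : K ≤ K') (F : G → ℂ)
    (h0 : ∀ x ∈ K', x ∉ K → F x = 0) : ∑ x : K', F x = ∑ x : K, F x :=
  (Fintype.sum_of_injective (Subgroup.inclusion hle) (Subgroup.inclusion_injective hle)
    (fun x : K => F x) (fun x : K' => F x)
    (fun x hx => h0 x x.2 fun h => hx ⟨⟨x, h⟩, Subtype.ext rfl⟩) fun _ => rfl).symm

omit [Fintype G] in
theorem card_mul_relIndex' {K K' : Subgroup G} (hle : K ≤ K') :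
    Nat.card K * K.relIndex K' = Nat.card K' := by
  rw [← Subgroup.relIndex_bot_left, ← Subgroup.relIndex_bot_left (H := K')]
  exact Subgroup.relIndex_mul_relIndex _ _ _ bot_le hle

theorem sum_normSq_of_irr (K : Subgroup G) {f : K → ℂ} (hf : IsIrrCharacter K f) :
    ∑ x : K, f x * conj (f x) = (Nat.card K : ℂ) := by
  have h := classInner_irr_self hf
  rw [classInner, inv_mul_eq_iff_eq_mul₀ (Nat.cast_ne_zero.2 Nat.card_pos.ne'), mul_one] at h
  exact h

theorem not_homogeneous (L H : Subgroup G) [L.Normal] (hLH : L ≤ H) (hmax : IsCoatom H)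
    (hsolv : Group.IsSolvable (G ⧸ L)) (θ : H → ℂ) (hθ : IsIrrCharacter H θ)
    (hθL : IsIrrCharacter L (fun x : L => θ ⟨(x : G), hLH x.2⟩))
    (hind : IsIrrCharacter G (indFun H θ))
    (hhom : ∀ M : Subgroup G, M.Normal → L ≤ M → ∃ (φ : M → ℂ) (e : ℕ), IsIrrCharacter M φ ∧
      (fun m : M => indFun H θ m) = (e : ℂ) • φ) : False := by
  obtain ⟨C, M, A, hCn, hMn, hLC, hCM, hCA, hAH, hCMne, hinf, hsup, hNn, hcop, hAC, hfix⟩ :=
    exists_layer L H hLH hmax hsolv
  haveI := hCn
  haveI := hMn
  set N := M ⊔ A with hN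
  haveI : N.Normal := hNn
  have hCH : C ≤ H := hCA.trans hAH
  set χ := indFun H θ with hχ
  set Θ := extendByZero H θ with hΘ
  set i : ℕ := H.index with hi
  have hθc : IsClassFunction H θ := IsCharacter.isClassFunction (IsIrrCharacter.isCharacter hθ)
  have hχc : IsClassFunction G χ := isClassFunction_indFun H θ
  have hinN : ∀ n ∈ N, n ∈ H → n ∈ A := by
    intro n hn hnH
    obtain ⟨m, hm, a, ha, rfl⟩ := Subgroup.mem_sup_of_normal_left.1 hn
    have : m ∈ C := by
      rw [← hinf]
      exact ⟨hm, by simpa using H.mul_mem hnH (H.inv_mem (hAH ha))⟩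
    exact A.mul_mem (hCA this) ha
  -- cardinalities
  have hG0 : (Nat.card H : ℂ) ≠ 0 := Nat.cast_ne_zero.2 Nat.card_pos.ne'
  have hM0 : (Nat.card M : ℂ) ≠ 0 := Nat.cast_ne_zero.2 Nat.card_pos.ne'
  have hN0 : (Nat.card N : ℂ) ≠ 0 := Nat.cast_ne_zero.2 Nat.card_pos.ne'
  have hGH : Nat.card G = Nat.card H * i := (Subgroup.card_mul_index H).symm
  have hMC : Nat.card M = Nat.card C * i := by
    have h1 : M.index = C.relIndex H := by
      rw [← Subgroup.relIndex_top_right, ← hsup, Subgroup.relIndex_sup_left,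
        ← Subgroup.inf_relIndex_right, hinf]
    have h2 := Subgroup.card_mul_index M
    rw [h1, hGH, ← card_mul_relIndex' hCH] at h2
    have h3 : Nat.card M * C.relIndex H = (Nat.card C * i) * C.relIndex H := by rw [h2]; ring
    refine Nat.eq_of_mul_eq_mul_right (Nat.pos_of_ne_zero fun h0 => ?_) h3
    have := card_mul_relIndex' hCH
    rw [h0, mul_zero] at this
    exact (Nat.card_pos (α := H)).ne this
  have hCi : C.relIndex M = i := Nat.eq_of_mul_eq_mul_left (Nat.card_pos (α := C))
    ((card_mul_relIndex' hCM).trans hMC)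
  have hMA' : M.relIndex N = C.relIndex A := by
    rw [hN, Subgroup.relIndex_sup_left, ← Subgroup.inf_relIndex_right]
    congr 1
    exact le_antisymm (by rw [← hinf]; exact inf_le_inf_left M hAH) (le_inf hCM hCA)
  have hNA : Nat.card N = Nat.card A * i := by
    rw [← card_mul_relIndex' (le_sup_left : M ≤ N), hMA', hMC, ← card_mul_relIndex' hCA]
    ring
  -- restrictions of `θ`
  have hθK : ∀ K : Subgroup G, L ≤ K → ∀ hK : K ≤ H,
      IsIrrCharacter K (fun x : K => θ (Subgroup.inclusion hK x)) := by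
    intro K hLK hK
    exact Clifford.isIrrCharacter_of_restrict (Subgroup.inclusion hLK)
      (IsCharacter.comp (IsIrrCharacter.isCharacter hθ) (Subgroup.inclusion hK)) hθL
  set φ : IrrCharacter C := ⟨_, hθK C hLC hCH⟩ with hφ
  have hi0 : (i : ℂ) ≠ 0 := Nat.cast_ne_zero.2 Subgroup.index_ne_zero_of_finite
  -- `χ` on `C`
  have hχC : ∀ c : C, χ c = i * φ.1 c := by
    obtain ⟨φ', e, hφ', he⟩ := hhom C hCn hLC
    have hres : resFun C χ = (1 * (Nat.card H : ℂ)⁻¹) • ∑ x : G, conjFun C φ.1 x :=
      resFun_indFun_of_le C H θ hCH 1 φ.1 fun n => (one_mul _).symm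
    have hall : ∀ g, conjFun C φ.1 g = φ' := by
      intro g
      by_contra hne
      have h1 : classInner (resFun C χ) (conjChar C φ g).1 = 0 := by
        rw [show resFun C χ = (e : ℂ) • φ' from he, classInner_smul_left,
          classInner_irr_of_ne hφ' (conjChar C φ g).2 fun h => hne h.symm, mul_zero]
      rw [hres, classInner_smul_left, classInner_sum_left, mul_eq_zero, one_mul] at h1
      rcases h1 with h1 | h1
      · exact inv_ne_zero hG0 h1
      · have h2 : ∀ x : G, classInner (conjFun C φ.1 x) (conjChar C φ g).1 =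
            if conjChar C φ x = conjChar C φ g then (1 : ℂ) else 0 := fun x =>
          classInner_irr (conjChar C φ x) (conjChar C φ g)
        simp only [h2, Finset.sum_boole, Nat.cast_eq_zero, Finset.card_eq_zero,
          Finset.filter_eq_empty_iff] at h1
        exact h1 (Finset.mem_univ g) rfl
    intro c
    have h := congrFun hres c
    simp only [resFun_apply, Pi.smul_apply, Finset.sum_apply, smul_eq_mul, one_mul] at h
    have hall' : ∀ x, conjFun C φ.1 x c = φ.1 c := fun x => by
      rw [hall x, ← hall 1, conjFun_one]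
    rw [h, Finset.sum_congr rfl (fun x _ => hall' x), Finset.sum_const, Finset.card_univ,
      ← Nat.card_eq_fintype_card, nsmul_eq_mul, hGH]
    push_cast
    field_simp
  -- `χ` on `M`
  have hχM : ∀ m ∈ M, m ∉ C → χ m = 0 := by
    intro m hm hmC
    refine indFun_eq_zero_of_forall_notMem H θ fun x hx => hmC ?_
    have h1 : x⁻¹ * m * x ∈ C := by
      rw [← hinf]; exact ⟨by simpa using hMn.conj_mem m hm x⁻¹, hx⟩
    have h2 := hCn.conj_mem _ h1 x
    simpa [mul_assoc] using h2
  have hSM : ∑ m : M, χ m * conj (χ m) = (i : ℂ) * i * Nat.card C := by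
    rw [sum_of_vanishing hCM (fun g => χ g * conj (χ g)) (fun m hm hmC => by simp [hχM m hm hmC]),
      ← sum_normSq_of_irr C φ.2, Finset.mul_sum]
    exact Finset.sum_congr rfl fun c _ => by rw [hχC c, map_mul, Complex.conj_natCast]; ring
  have hMM : classInner (resFun M χ) (resFun M χ) = (i : ℂ) := by
    rw [classInner, show (fun m : M => resFun M χ m * conj (resFun M χ m)) =
      fun m : M => χ m * conj (χ m) from rfl, hSM, hMC]
    have : (Nat.card C : ℂ) ≠ 0 := Nat.cast_ne_zero.2 Nat.card_pos.ne'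
    push_cast
    field_simp
  obtain ⟨η, e, hη, he⟩ := hhom M hMn (hLC.trans hCM)
  have he' : resFun M χ = (e : ℂ) • η := he
  have hee : e * e = i := by
    rw [he', classInner_smul_left, classInner_smul_right, classInner_irr_self hη,
      Complex.conj_natCast, mul_one] at hMM
    exact_mod_cast hMM
  -- `χ` on `N`
  obtain ⟨ζ, f, hζ, hf⟩ := hhom N hNn ((hLC.trans hCM).trans le_sup_left)
  have hMN : M ≤ N := le_sup_left
  have hfe : f = e := by
    obtain ⟨c, hc0, hc⟩ := IsIrrCharacter.exists_degree hζ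
    obtain ⟨d, hd0, hd⟩ := IsIrrCharacter.exists_degree hη
    have hfd : f * c = e * d := by
      have h1 := congrFun hf (1 : N)
      have h2 := congrFun he (1 : M)
      simp only [Pi.smul_apply, smul_eq_mul, Subgroup.coe_one, hc, hd] at h1 h2
      exact_mod_cast h1.symm.trans h2
    have he0 : e ≠ 0 := by rintro rfl; exact hi0 (by rw [← hee]; simp)
    have hf0 : (f : ℂ) ≠ 0 := by
      rw [Nat.cast_ne_zero]; rintro rfl
      simp [he0, hd0.ne'] at hfd
    haveI : (M.subgroupOf N).Normal := hMn.subgroupOf N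
    let η' : M.subgroupOf N → ℂ := fun x => η (Subgroup.subgroupOfEquivOfLe hMN x)
    have hη' : IsIrrCharacter (M.subgroupOf N) η' :=
      IsIrrCharacter.comp_surjective hη (Subgroup.subgroupOfEquivOfLe hMN).toMonoidHom
        (MulEquiv.surjective _)
    have hres : (fun x : M.subgroupOf N => ζ x) = ((e : ℂ) / f) • η' := by
      funext x
      have h1 := congrFun hf (x : N)
      have h2 := congrFun he (Subgroup.subgroupOfEquivOfLe hMN x)
      simp only [Pi.smul_apply, smul_eq_mul] at h1 h2 ⊢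
      have h3 : (f : ℂ) * ζ x = e * η' x := h1.symm.trans h2
      rw [div_mul_eq_mul_div, eq_div_iff hf0, mul_comm, h3]
    obtain ⟨⟨g, hg⟩, hdvd⟩ := S0887.result (M.subgroupOf N) ζ hζ η' hη' (by
      rw [hres, classInner_smul_left, classInner_irr_self hη', mul_one]
      exact div_ne_zero (Nat.cast_ne_zero.2 he0) hf0) c d hc (by simp [η', hd])
    rw [hg, Nat.mul_div_cancel_left _ hd0, show (M.subgroupOf N).index = M.relIndex N from rfl,
      hMA'] at hdvd
    have hfg : f * g = e := by
      rw [hg, ← mul_assoc, mul_comm f d, mul_assoc, mul_comm e d] at hfd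
      exact Nat.eq_of_mul_eq_mul_left hd0 hfd
    have hgi : g ∣ C.relIndex M := by
      rw [hCi, ← hee, ← hfg]; exact dvd_mul_of_dvd_left (dvd_mul_left g f) _
    have hg1 : g = 1 := Nat.dvd_one.1 (hcop.gcd_eq_one ▸ Nat.dvd_gcd hdvd hgi)
    rw [hg1, mul_one] at hfg
    exact hfg
  have hNN : classInner (resFun N χ) (resFun N χ) = (i : ℂ) := by
    rw [show resFun N χ = (f : ℂ) • ζ from hf, classInner_smul_left, classInner_smul_right,
      classInner_irr_self hζ, Complex.conj_natCast, mul_one, hfe, ← hee]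
    push_cast; rfl
  -- the formula for `χ` through the conjugates by `M`
  have hΘinv : ∀ (g : G) (h : H), Θ ((h : G)⁻¹ * g * h) = Θ g := by
    intro g h
    by_cases hg : g ∈ H
    · have h' : (h : G)⁻¹ * g * h ∈ H := H.mul_mem (H.mul_mem (H.inv_mem h.2) hg) h.2
      rw [hΘ, extendByZero_of_mem _ _ hg, extendByZero_of_mem _ _ h']
      refine Eq.trans ?_ (hθc ⟨g, hg⟩ h⁻¹)
      exact congrArg θ (Subtype.ext (by simp))
    · have h' : (h : G)⁻¹ * g * h ∉ H := fun hh => hg (by
        simpa [mul_assoc] using H.mul_mem (H.mul_mem h.2 hh) (H.inv_mem h.2))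
      rw [hΘ, extendByZero_of_notMem _ _ hg, extendByZero_of_notMem _ _ h']
  have hform : ∀ n : G, χ n = (i : ℂ) / Nat.card M * ∑ y : M, Θ ((y : G)⁻¹ * n * y) := by
    intro n
    set F : G → ℂ := fun x => Θ (x⁻¹ * n * x) with hF
    have h1 : ∀ x : G, ∑ y : M, F ((y : G) * x) = ∑ y : M, F y := by
      intro x
      obtain ⟨y₀, hy₀, h, hh, rfl⟩ := Subgroup.mem_sup_of_normal_left.1 (hsup ▸ Subgroup.mem_top x)
      refine Fintype.sum_equiv (Equiv.mulRight (⟨y₀, hy₀⟩ : M)) _ _ fun y => ?_
      simp only [hF, Equiv.coe_mulRight, Subgroup.coe_mul]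
      refine Eq.trans (congrArg Θ ?_) (hΘinv _ ⟨h, hh⟩)
      simp [mul_assoc]
    have h2 : (Nat.card M : ℂ) * ∑ x : G, F x = (Nat.card G : ℂ) * ∑ y : M, F y := by
      calc (Nat.card M : ℂ) * ∑ x : G, F x = ∑ y : M, ∑ x : G, F ((y : G) * x) := by
            rw [show (∑ y : M, ∑ x : G, F ((y : G) * x)) = ∑ _y : M, ∑ x : G, F x from
              Finset.sum_congr rfl fun y _ => Fintype.sum_equiv (Equiv.mulLeft (y : G)) _ _ fun _ => rfl]
            simp [Nat.card_eq_fintype_card]
        _ = ∑ x : G, ∑ y : M, F y := by rw [Finset.sum_comm]; exact Finset.sum_congr rfl fun x _ => h1 x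
        _ = _ := by simp [Nat.card_eq_fintype_card]
    rw [hGH, Nat.cast_mul] at h2
    show (Nat.card H : ℂ)⁻¹ * ∑ x : G, F x = _
    field_simp
    linear_combination h2
  set ΘN : N → ℂ := fun n => Θ n with hΘN
  have hΘA : ∀ a : A, Θ a = θ (Subgroup.inclusion hAH a) := fun a =>
    extendByZero_of_mem _ _ (hAH a.2)
  have hΘC : ∀ c : C, Θ c = φ.1 c := fun c => extendByZero_of_mem _ _ (hCH c.2)
  have hsub : ∀ F : G → ℂ, ∑ n : N, Θ n * F n = ∑ a : A, θ (Subgroup.inclusion hAH a) * F a := by
    intro F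
    rw [sum_of_vanishing (le_sup_right : A ≤ N) (fun g => Θ g * F g) fun n hn hnA => by
      rw [hΘ, extendByZero_of_notMem _ _ fun h => hnA (hinN n hn h), zero_mul]]
    exact Finset.sum_congr rfl fun a _ => by
      rw [hΘ, extendByZero_of_mem _ _ (hAH a.2)]; rfl
  have hSA : ∑ a : A, θ (Subgroup.inclusion hAH a) * conj (θ (Subgroup.inclusion hAH a)) =
      (Nat.card A : ℂ) := sum_normSq_of_irr A (hθK A (hLC.trans hCA) hAH)
  have hΘΘ : classInner ΘN ΘN = (i : ℂ)⁻¹ := by
    have hA0 : (Nat.card A : ℂ) ≠ 0 := Nat.cast_ne_zero.2 Nat.card_pos.ne'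
    rw [classInner]
    simp only [hΘN]
    rw [hsub (fun g => conj (Θ g))]
    simp only [hΘA]
    rw [hSA, hNA]
    push_cast
    field_simp
  have hΘχ : classInner ΘN (resFun N χ) = 1 := by
    have h1 : ∑ n : N, χ n * conj (χ n) = (i : ℂ) * ∑ n : N, Θ n * conj (χ n) := by
      calc ∑ n : N, χ n * conj (χ n)
          = ∑ y : M, (i : ℂ) / Nat.card M * ∑ n : N, Θ ((y : G)⁻¹ * n * y) * conj (χ n) := by
            simp only [Finset.mul_sum]
            rw [Finset.sum_comm]
            refine Finset.sum_congr rfl fun n _ => ?_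
            rw [show χ n * conj (χ n) = (i : ℂ) / Nat.card M * (∑ y : M, Θ ((y : G)⁻¹ * n * y)) *
              conj (χ n) by rw [← hform n], Finset.mul_sum, Finset.sum_mul]
            exact Finset.sum_congr rfl fun y _ => by ring
        _ = ∑ _y : M, (i : ℂ) / Nat.card M * ∑ n : N, Θ n * conj (χ n) := by
            refine Finset.sum_congr rfl fun y _ => congrArg _ ?_
            refine Fintype.sum_equiv (MulAut.conjNormal (y : G)⁻¹ : MulAut N).toEquiv _ _ fun n => ?_
            show _ = Θ ((MulAut.conjNormal (y : G)⁻¹ n : N) : G) *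
              conj (χ ((MulAut.conjNormal (y : G)⁻¹ n : N) : G))
            simp only [MulAut.conjNormal_apply, inv_inv]
            rw [show χ ((y : G)⁻¹ * (n : G) * (y : G)) = χ n by
              simpa using hχc (n : G) (y : G)⁻¹]
        _ = _ := by
            rw [Finset.sum_const, Finset.card_univ, ← Nat.card_eq_fintype_card, nsmul_eq_mul]
            field_simp
    have h2 : classInner (resFun N χ) (resFun N χ) = (i : ℂ) * classInner ΘN (resFun N χ) := by
      simp only [classInner, resFun_apply, hΘN]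
      rw [h1]; ring
    rw [hNN] at h2
    exact mul_left_cancel₀ hi0 (by rw [mul_one]; exact h2.symm)
  have hD : resFun N χ - (i : ℂ) • ΘN = 0 := by
    refine classInner_self_eq_zero ?_
    rw [classInner_sub_left, classInner_sub_right, classInner_sub_right, classInner_smul_left,
      classInner_smul_left, classInner_smul_right, classInner_smul_right, hNN, hΘχ,
      ← conj_classInner ΘN (resFun N χ), hΘχ, map_one, hΘΘ, Complex.conj_natCast]
    field_simp
    ring
  -- `θ` vanishes on `A` outside `C`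
  have hvan : ∀ a : A, (a : G) ∉ C → θ (Subgroup.inclusion hAH a) = 0 := by
    intro a haC
    obtain ⟨y, hy, hya⟩ : ∃ y ∈ M, y * (a : G) * y⁻¹ ∉ A := by
      by_contra! hcon
      exact haC (hfix a a.2 hcon)
    have hyN : y * (a : G) * y⁻¹ ∈ N :=
      hNn.conj_mem _ (Subgroup.mem_sup_right a.2) y
    have h1 := congrFun hD ⟨_, hyN⟩
    have h2 := congrFun hD ⟨a, Subgroup.mem_sup_right a.2⟩
    simp only [Pi.sub_apply, Pi.smul_apply, Pi.zero_apply, resFun_apply, hΘN, smul_eq_mul,
      sub_eq_zero] at h1 h2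
    rw [hΘ, extendByZero_of_notMem _ _ fun h => hya (hinN _ hyN h), mul_zero, hχc] at h1
    rw [h1, hΘ, extendByZero_of_mem _ _ (hAH a.2)] at h2
    exact (mul_eq_zero.1 h2.symm).resolve_left hi0
  have hAeq : A = C := by
    have h1 : ∑ a : A, Θ a * conj (Θ a) = ∑ c : C, Θ c * conj (Θ c) :=
      sum_of_vanishing hCA (fun g => Θ g * conj (Θ g)) fun a ha haC => by
        rw [hΘ, extendByZero_of_mem _ _ (hAH ha)]
        rw [show θ ⟨a, hAH ha⟩ = 0 from hvan ⟨a, ha⟩ haC, zero_mul]
    simp only [hΘA, hΘC] at h1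
    rw [hSA, sum_normSq_of_irr C φ.2] at h1
    exact (Subgroup.eq_of_le_of_card_ge hCA (Nat.cast_injective h1).le).symm
  have hMtop : M = ⊤ := by
    rw [← hsup, hAC hAeq, sup_eq_left.2 hCM]
  have h1 : (i : ℂ) = 1 := by
    rw [← hMM, ← classInner_irr_self hind, classInner, classInner]
    subst hMtop
    rw [Subgroup.card_top]
    congr 1
    exact Fintype.sum_equiv Subgroup.topEquiv.toEquiv _ _ fun m => rfl
  exact hmax.1 (Subgroup.index_eq_one.1 (by exact_mod_cast h1))

end Cfsg.Agent.InducedMax
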